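import Groth.Agent.CodimQf.Basic
import Groth.Agent.AlgSpDec.QsDense
import Groth.Agent.AlgSpDec.FieldFibre
import Groth.Agent.AlgSpVal.ExistUC
import Groth.Agent.AlgSpDec.LqfScheme
import Groth.Agent.AlgSpDec.LimDescentRep
import Groth.Agent.AlgSpDec.AffineLocal
import Groth.Agent.AlgSpDec.AffineRep
import Groth.Agent.AlgSpLib.CartierRegular
import Groth.Agent.AlgSpPts.OpenSub
import Groth.Agent.MorLib.GenFinite
import Groth.Agent.EtFound.Descent
import Groth.Agent.S10197

/-!
# Finiteness near a point of codimension zero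
-/

set_option autoImplicit false
set_option backward.isDefEq.respectTransparency false
set_option backward.isDefEq.respectTransparency.types false

universe u

open CategoryTheory CategoryTheory.Limits AlgebraicGeometry AlgSp Groth.Agent.AlgSpLib
  Groth.Agent.AlgSpPts Groth.Agent.AlgSpDec TopologicalSpace

namespace Groth.Agent.FinNhd

variable {S : Scheme.{u}}

/-- A morphism from an algebraic space factors through an open subspace containing its image. -/
theorem exists_factor_open_space {X' X Q : Sp S} {j : X' ⟶ X} (hj : RepWith @IsOpenImmersion j)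
    (hQ : IsAlgSpace Q) (h : Q ⟶ X) (hh : ∀ z, Points.map h z ∈ Set.range (Points.map j)) :
    ∃ h', h' ≫ j = h := by
  obtain ⟨W, c, hc, hcs⟩ := hQ.atlas
  obtain ⟨c', hc'⟩ := AlgSpDec.exists_factor_open hj (c ≫ h) fun w => by
    rw [← Points.map_ofPt]; exact hh _
  have := mono_of_openImmersion hj
  have : Mono (pullback.snd j h) := inferInstance
  have : Epi c := epi_of_etale_surjective hc hcs
  have : Epi (pullback.snd j h) := epi_of_epi_fac (f := pullback.lift c' c hc') (h := c) (pullback.lift_snd _ _ _)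
  have := isIso_of_mono_of_epi (pullback.snd j h)
  exact ⟨inv (pullback.snd j h) ≫ pullback.fst j h, by
    rw [Category.assoc, pullback.condition, IsIso.inv_hom_id_assoc]⟩

theorem mem_genericPoints {V : Scheme.{u}} {v : V} (h : ∀ v' : V, v' ⤳ v → v' = v) :
    v ∈ genericPoints V := by
  refine ⟨isIrreducible_singleton.closure, fun T hT hle => ?_⟩
  have hg := hT.isGenericPoint_genericPoint_closure
  have h1 : hT.genericPoint = v := h _ (hg.specializes (subset_closure (hle (subset_closure rfl))))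
  exact fun x hx => by
    rw [← h1]
    exact (hg.specializes (subset_closure hx)).mem_closed isClosed_closure (subset_closure rfl)

/-- Removing a closed subset without points over a point without generization. -/
theorem exists_open_avoid {U W : Scheme.{u}} (k : U ⟶ W) [CompactSpace U] [IsAffine W] {v : W}
    (hv : ∀ v' : W, v' ⤳ v → v' = v) {C : Set U} (hC : IsClosed C) (h : ∀ u ∈ C, k u ≠ v) :
    ∃ W₁ : W.Opens, v ∈ W₁ ∧ ∀ u ∈ C, k u ∉ W₁ := by
  let I := Scheme.IdealSheafData.vanishingIdeal ⟨C, hC⟩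
  have hI : Set.range I.subschemeι = C := by
    rw [Scheme.IdealSheafData.range_subschemeι, Scheme.IdealSheafData.coe_support_vanishingIdeal]; rfl
  have : CompactSpace ↥I.subscheme := QuasiCompact.compactSpace_of_compactSpace I.subschemeι
  have : QuasiCompact (I.subschemeι ≫ k) := quasiCompact_of_compactSpace _
  refine ⟨⟨(closure (Set.range (I.subschemeι ≫ k)))ᶜ, isClosed_closure.isOpen_compl⟩, fun hmem => ?_,
    fun u hu hu' => ?_⟩
  · obtain ⟨t, ht⟩ := Groth.Agent.FDescent.exists_specializes_of_mem_closure_range (f := I.subschemeι ≫ k) hmem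
    exact h _ (hI ▸ ⟨t, rfl⟩) ((Scheme.Hom.comp_apply _ _ _).symm.trans (hv _ ht))
  · obtain ⟨t, rfl⟩ : u ∈ Set.range I.subschemeι := hI.symm ▸ hu
    exact hu' (subset_closure ⟨t, Scheme.Hom.comp_apply _ _ _⟩)

variable {X Y : Space S}

/-- The morphism is finite over an open neighbourhood of the point of an affine chart. -/
theorem exists_finite_over_chart (f : X ⟶ Y) (hqs : IsQuasiSeparatedMor f.hom) (hft : IsFiniteTypeMor f.hom)
    {W : Over S} [IsAffine W.left] {b : (yon S).obj W ⟶ Y.obj} (hb : RepWith @Etale b) (v : ↥W.left)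
    (hv : ∀ v' : ↥W.left, v' ⤳ v → v' = v)
    (hqf : ∀ x : Points X.obj, Points.map f.hom x = Points.ofPt b v →
      HasAtMor (fun U _ h u => ∃ W : U.Opens, u ∈ W ∧ LocallyQuasiFinite (W.ι ≫ h) ∧
        LocallyOfFiniteType (W.ι ≫ h)) f.hom x) :
    ∃ (V : Over S) (ι : V ⟶ W) (TV : Over S) (g' : TV ⟶ V) (m : (yon S).obj TV ⟶ X.obj),
      IsOpenImmersion ι.left ∧ v ∈ Set.range ι.left ∧ IsFinite g'.left ∧
        IsPullback m ((yon S).map g') f.hom ((yon S).map ι ≫ b) := by
  let P := pullback f.hom b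
  let pX : P ⟶ X.obj := pullback.fst f.hom b
  let pW : P ⟶ (yon S).obj W := pullback.snd f.hom b
  have sqP : IsPullback pX pW f.hom b := IsPullback.of_hasPullback f.hom b
  have hP : IsAlgSpace P := isAlgSpace_pullback X.property (IsAlgSpace.yon_obj _) Y.property f.hom b
  have hPqs : IsQuasiSeparatedMor pW := isQuasiSeparatedMor_of_isPullback sqP hqs
  have hPq : IsQuasiSeparatedSp P := AlgSpVal.isQuasiSeparatedSp_of_toAffine pW hPqs
  have hPc : IsQuasiCompactSp P := hft.2 (IsAlgSpace.yon_obj W) (isQuasiCompactSp_yon W) b _ _ sqP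
  obtain ⟨U, θ, hU, hθ, hθs⟩ := CartierRegular.exists_affine_atlas hP hPc
  obtain ⟨k, hk⟩ := (yon S).map_surjective (θ ≫ pW)
  have ha : RepWith @Etale (θ ≫ pX) := repWith_comp hθ (repWith_of_isPullback sqP.flip hb)
  have w : (θ ≫ pX) ≫ f.hom = (yon S).map k ≫ b := by
    rw [hk, Category.assoc, Category.assoc, sqP.w]
  have hkl : LocallyOfFiniteType k.left := hft.1 _ b k ha hb w
  have : QuasiCompact k.left := inferInstance
  have hPt : ∀ u, Points.map pW (Points.ofPt θ u) = Points.ofScheme W (k.left u) := fun u => by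
    rw [Points.map_ofPt, ← hk]
    exact ((congrArg (Points.ofPt · u) (Category.comp_id _).symm).trans (ofPt_comp k (𝟙 _) u))
  have hsch : Function.Injective (Points.ofScheme W) := (Points.schemeHomeo W).injective
  have h0 : ∀ u, k.left u = v → FlatMor.fibreDimAt k.left u = 0 := fun u hu => by
    refine (CodimQf.hasAtMor_qf_iff hft.1 ha hb w u).1 (hqf _ ?_)
    rw [Points.map_ofPt, w, ofPt_comp, hu]
  have hfinU : (k.left ⁻¹' {v}).Finite :=
    (FieldFibre.finite_qf_points k.left v).subset fun u hu => ⟨hu, h0 u hu⟩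
  have hmax : ∀ u, k.left u = v → Order.coheight u = 0 := fun u hu => by
    rw [CodimQf.coheight_eq_zero_iff]
    exact fun u' h' => CodimQf.eq_of_qf k.left (h0 u hu)
      ((hv _ (hu ▸ h'.map k.left.continuous)).trans hu.symm) (Or.inl h')
  obtain ⟨X', j₀, hj₀, hr, hmx⟩ := Groth.Agent.S10197.result ⟨P, hP⟩
  obtain ⟨T, ⟨r⟩⟩ := hr.has_representation
  let e : (yon S).obj T ≅ X'.obj := AlgSp.isoOfRepresentableBy r
  let j : (yon S).obj T ⟶ P := e.hom ≫ j₀.hom
  have hj : RepWith @IsOpenImmersion j := repWith_comp (repWith_of_isIso _ _) hj₀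
  have hjcov : ∀ u, k.left u = v → Points.ofPt θ u ∈ Set.range (Points.map j) := fun u hu => by
    obtain ⟨T', t, ht, hx⟩ := exists_open_subscheme_of_codimZero_qs hP hPq hθ u (hmax u hu)
    obtain ⟨z, hz⟩ := mem_range_of_openImm j₀ hmx t ht hx
    exact ⟨Points.map e.inv z, by rw [← Points.map_comp, e.inv_hom_id_assoc, hz]⟩
  have hopen : IsOpen (Set.range (Points.map j)) := (isOpenEmbedding_map' hP hj).isOpen_range
  let C : Set ↥U.left := (Points.ofPt θ ⁻¹' Set.range (Points.map j))ᶜ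
  obtain ⟨W₁, hvW₁, hW₁⟩ := exists_open_avoid k.left hv
    (C := C) (hopen.preimage (Points.continuous_ofPt θ)).isClosed_compl fun u hu hu' => hu (hjcov u hu')
  have hcov₁ : ∀ z : Points P, Points.map pW z ∈ Points.ofScheme W '' W₁ → z ∈ Set.range (Points.map j) := by
    intro z hz
    obtain ⟨u, rfl⟩ := surjective_ofPt hθs z
    obtain ⟨w', hw', he⟩ := hz
    rw [hPt] at he
    by_contra hn
    exact hW₁ u hn (hsch he ▸ hw')
  obtain ⟨g, hg⟩ := (yon S).map_surjective (j ≫ pW)
  have hjt : ∀ t, Points.map pW (Points.ofPt j t) = Points.ofScheme W (g.left t) := fun t => by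
    rw [Points.map_ofPt, ← hg]
    exact ((congrArg (Points.ofPt · t) (Category.comp_id _).symm).trans (ofPt_comp g (𝟙 _) t))
  have hmono := mono_of_openImmersion hj
  have hjinj : Function.Injective (Points.ofPt j) := fun t t' h => by
    rw [Points.ofPt_eq_map_ofScheme j t, Points.ofPt_eq_map_ofScheme j t'] at h
    exact (Points.schemeHomeo T).injective ((isOpenEmbedding_map' hP hj).injective h)
  have hjemb : Topology.IsOpenEmbedding (Points.ofPt j) := by
    have h1 : Points.ofPt j = Points.map j ∘ Points.schemeHomeo T :=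
      funext fun t => Points.ofPt_eq_map_ofScheme j t
    rw [h1]
    exact (isOpenEmbedding_map' hP hj).comp (Points.schemeHomeo T).isOpenEmbedding
  have hjrange : ∀ z, z ∈ Set.range (Points.map j) → ∃ t, Points.ofPt j t = z := by
    rintro _ ⟨z, rfl⟩
    obtain ⟨t, rfl⟩ := (Points.schemeHomeo T).surjective z
    exact ⟨t, Points.ofPt_eq_map_ofScheme j t⟩
  have : LocallyOfFiniteType g.left := by
    have ha' : RepWith @Etale (j ≫ pX) :=
      repWith_comp (repWith_mono (fun _ _ i (_ : IsOpenImmersion i) => inferInstanceAs (Etale i)) _ hj)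
        (repWith_of_isPullback sqP.flip hb)
    exact hft.1 _ b g ha' hb (by rw [hg]; simp only [j, Category.assoc, sqP.w])
  have : QuasiSeparated g.left := by
    refine (isQuasiSeparatedMor_yon_map_iff g).1 ?_
    rw [hg]
    exact isQuasiSeparatedMor_comp
      (AlgSpDec.isQuasiSeparatedMor_of_isSeparatedMor (isSeparatedMor_of_mono j)) hPqs
  -- over `W₁` the open subscheme contains the whole preimage
  let f₁ := g.left ∣_ W₁
  have : QuasiCompact f₁ := by
    refine ⟨fun K hK hKc => ?_⟩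
    have hpre : (g.left ⁻¹' (W₁.ι '' K)) = Points.ofPt j ⁻¹' (Points.ofPt θ '' (k.left ⁻¹' (W₁.ι '' K))) := by
      ext t
      constructor
      · intro ht
        obtain ⟨u, hu⟩ := surjective_ofPt hθs (Points.ofPt j t)
        refine ⟨u, ?_, hu⟩
        have h1 := hjt t
        rw [← hu, hPt] at h1
        show k.left u ∈ W₁.ι '' K
        rw [hsch h1]
        exact ht
      · rintro ⟨u, hu, he⟩
        have h1 := hjt t
        rw [← he, hPt] at h1
        show g.left t ∈ W₁.ι '' K
        rw [← hsch h1]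
        exact hu
    have hKc' : IsCompact (k.left ⁻¹' (W₁.ι '' K)) :=
      k.left.isCompact_preimage (U := W₁.ι ''ᵁ ⟨K, hK⟩) (hKc.image W₁.ι.continuous)
    have hsub : Points.ofPt θ '' (k.left ⁻¹' (W₁.ι '' K)) ⊆ Set.range (Points.ofPt j) := by
      rintro _ ⟨u, hu, rfl⟩
      refine hjrange _ (hcov₁ _ ⟨k.left u, ?_, (hPt u).symm⟩)
      obtain ⟨z, -, hz⟩ := hu
      rw [← hz]
      exact z.2
    have hc : IsCompact (g.left ⁻¹' (W₁.ι '' K)) := by
      rw [hpre]
      exact hjemb.isInducing.isCompact_preimage' (hKc'.image (Points.continuous_ofPt θ)) hsub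
    have h2 : (g.left ⁻¹ᵁ W₁).ι '' (f₁ ⁻¹' K) = g.left ⁻¹' (W₁.ι '' K) := by
      ext t
      constructor
      · rintro ⟨z, hz, rfl⟩
        exact ⟨f₁ z, hz, by rw [← Scheme.Hom.comp_apply, morphismRestrict_ι]; rfl⟩
      · rintro ⟨z, hz, he⟩
        have ht : t ∈ g.left ⁻¹ᵁ W₁ := show g.left t ∈ W₁ from he ▸ z.2
        refine ⟨⟨t, ht⟩, ?_, rfl⟩
        have : f₁ ⟨t, ht⟩ = z := W₁.ι.isOpenEmbedding.injective
          ((Scheme.Hom.comp_apply _ _ _).symm.trans (by rw [morphismRestrict_ι, he]; rfl))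
        show f₁ ⟨t, ht⟩ ∈ K
        rw [this]; exact hz
    rw [(g.left ⁻¹ᵁ W₁).ι.isOpenEmbedding.isInducing.isCompact_iff, h2]
    exact hc
  let η : W₁.toScheme := ⟨v, hvW₁⟩
  have hη : η ∈ genericPoints W₁.toScheme :=
    mem_genericPoints fun v' h' => Subtype.ext (hv _ (h'.map W₁.ι.continuous))
  have hfin : (f₁ ⁻¹' {η}).Finite := by
    have h1 : (g.left ⁻¹' {v}).Finite := by
      refine ((hfinU.image (Points.ofPt θ)).preimage hjinj.injOn).subset fun t ht => ?_
      obtain ⟨u, hu⟩ := surjective_ofPt hθs (Points.ofPt j t)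
      refine ⟨u, ?_, hu⟩
      have h2 := hjt t
      rw [← hu, hPt] at h2
      exact (hsch h2).trans ht
    refine (h1.preimage (g.left ⁻¹ᵁ W₁).ι.isOpenEmbedding.injective.injOn).subset fun z hz => ?_
    show g.left ((g.left ⁻¹ᵁ W₁).ι z) = v
    rw [← Scheme.Hom.comp_apply, ← morphismRestrict_ι, Scheme.Hom.comp_apply, show f₁ z = η from hz]
    rfl
  have : QuasiSeparated f₁ := IsZariskiLocalAtTarget.restrict ‹_› _
  obtain ⟨V₁, -, hηV, -, hV⟩ := MorLib.GenFinite.exists_isFinite f₁ hη hfin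
    (fun x hx => MorLib.GenFinite.exists_open_of_finite_fibre f₁ hfin x hx)
    (fun V₀ hV₀ hη₀ U₁ U₂ h₁ h₂ e₁ e₂ hne => MorLib.GenFinite.exists_avoid_inf f₁ hη hV₀ hη₀ h₁ h₂ e₁ e₂ hne)
    ⊤ trivial
  let V' : W.left.Opens := W₁.ι ''ᵁ V₁
  have hV'f : IsFinite (g.left ∣_ V') :=
    (MorphismProperty.arrow_mk_iso_iff @IsFinite (morphismRestrictRestrict g.left W₁ V₁)).1 hV
  let V : Over S := Over.mk (V'.ι ≫ W.hom)
  let ι : V ⟶ W := Over.homMk V'.ι rfl
  let TV : Over S := Over.mk ((g.left ⁻¹ᵁ V').ι ≫ T.hom)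
  let ιT : TV ⟶ T := Over.homMk (g.left ⁻¹ᵁ V').ι rfl
  let g' : TV ⟶ V := Over.homMk (g.left ∣_ V') (by
    show (g.left ∣_ V') ≫ V'.ι ≫ W.hom = (g.left ⁻¹ᵁ V').ι ≫ T.hom
    rw [morphismRestrict_ι_assoc, Over.w])
  have sqT : IsPullback ((yon S).map ιT) ((yon S).map g') ((yon S).map g) ((yon S).map ι) :=
    (show IsPullback ιT g' g ι from
      IsPullback.of_map (Over.forget S) (Over.OverMorphism.ext (morphismRestrict_ι g.left V').symm)
        (isPullback_morphismRestrict g.left V').flip).map (yon S)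
  have hQ : IsAlgSpace (pullback pW ((yon S).map ι)) :=
    isAlgSpace_pullback hP (IsAlgSpace.yon_obj _) (IsAlgSpace.yon_obj _) _ _
  obtain ⟨ψ, hψ⟩ := exists_factor_open_space hj hQ (pullback.fst pW ((yon S).map ι)) fun z => by
    refine hcov₁ _ ?_
    rw [← Points.map_comp, pullback.condition, Points.map_comp]
    obtain ⟨q, hq⟩ := (Points.schemeHomeo V).surjective (Points.map (pullback.snd pW ((yon S).map ι)) z)
    refine ⟨ι.left q, ?_, ?_⟩
    · obtain ⟨v₁, -, hv₁⟩ := (show ι.left q ∈ V' from q.2)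
      rw [← hv₁]; exact v₁.2
    · rw [← hq]
      exact (ofPt_comp ι (𝟙 _) q).symm.trans
        ((congrArg (Points.ofPt · q) ((Category.comp_id _).trans (Category.id_comp _).symm)).trans
          (Points.map_ofPt _ _ _).symm)
  have sqV : IsPullback ((yon S).map ιT ≫ j) ((yon S).map g') pW ((yon S).map ι) := by
    refine IsPullback.of_isLimit' ⟨by rw [Category.assoc, ← hg, sqT.w]⟩ ?_
    exact PullbackCone.IsLimit.mk _
      (fun c => sqT.lift (pullback.lift c.fst c.snd c.condition ≫ ψ) c.snd (by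
        rw [hg, Category.assoc, ← Category.assoc ψ, hψ, pullback.lift_fst_assoc, c.condition]))
      (fun c => by rw [← Category.assoc, sqT.lift_fst, Category.assoc, hψ, pullback.lift_fst])
      (fun c => sqT.lift_snd _ _ _)
      fun c m h1 h2 => sqT.hom_ext ((cancel_mono j).1 (by
        rw [sqT.lift_fst, Category.assoc, Category.assoc, hψ, pullback.lift_fst, h1])) (by
        rw [sqT.lift_snd, h2])
  refine ⟨V, ι, TV, g', ((yon S).map ιT ≫ j) ≫ pX, inferInstanceAs (IsOpenImmersion V'.ι),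
    ⟨⟨v, ⟨η, hηV, rfl⟩⟩, rfl⟩, hV'f, sqV.paste_horiz sqP⟩

theorem exists_open_nhd_finite (f : X ⟶ Y) (hqs : IsQuasiSeparatedMor f.hom) (hft : IsFiniteTypeMor f.hom)
    (y : Points Y.obj) (hy : HasAt (fun U u => ringKrullDim ↥(U.presheaf.stalk u) = 0) Y.obj y)
    (hqf : ∀ x : Points X.obj, Points.map f.hom x = y →
      HasAtMor (fun U _ h u => ∃ W : U.Opens, u ∈ W ∧ LocallyQuasiFinite (W.ι ≫ h) ∧
        LocallyOfFiniteType (W.ι ≫ h)) f.hom x) :
    ∃ (Y' X' : Space S) (j : Y' ⟶ Y) (fst : X' ⟶ Y') (snd : X' ⟶ X), RepWith @IsOpenImmersion j.hom ∧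
      y ∈ Set.range (Points.map j.hom) ∧ IsPullback fst.hom snd.hom j.hom f.hom ∧ IsFiniteMor fst.hom := by
  obtain ⟨W, b, v, hW, hb, rfl⟩ := exists_affine_chart_at Y.property y
  have hv := (CodimQf.coheight_eq_zero_iff v).1 ((CodimQf.hasAt_codim_zero_iff hb v).1 hy)
  obtain ⟨V, ι, TV, g', m, hιo, hvι, hfin, sq⟩ := exists_finite_over_chart f hqs hft hb v hv hqf
  have hιe : RepWith @Etale ((yon S).map ι) := (repWith_yon_map_iff _ ι).2 inferInstance
  have hbV : RepWith @Etale ((yon S).map ι ≫ b) := repWith_comp hιe hb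
  obtain ⟨Y', jY, hY', hjY, hrange⟩ := exists_open_subspace Y.property
    (isOpenMap_ofPt hbV _ isOpen_univ : IsOpen (Points.ofPt ((yon S).map ι ≫ b) '' Set.univ))
  rw [Set.image_univ] at hrange
  obtain ⟨b', hb'⟩ := AlgSpDec.exists_factor_open hjY ((yon S).map ι ≫ b) fun z => by
    rw [hrange]; exact ⟨z, rfl⟩
  have := mono_of_openImmersion hjY
  have := isIso_diagonal_of_mono jY
  have hb'e : RepWith @Etale b' := repWith_of_postcomp (repWith_of_isIso _ _) (by rw [hb']; exact hbV)
  have hb's : RepWith @Surjective b' := repWith_surjective_of_surjective hb'e.rep fun p => by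
    obtain ⟨z, hz⟩ : Points.map jY p ∈ Set.range (Points.ofPt ((yon S).map ι ≫ b)) := by
      rw [← hrange]; exact ⟨p, rfl⟩
    refine ⟨Points.ofScheme V z, (isOpenEmbedding_map' Y.property hjY).injective ?_⟩
    rw [← Points.map_comp, hb', ← Points.ofPt_eq_map_ofScheme, hz]
  have hX' : IsAlgSpace (pullback jY f.hom) := isAlgSpace_pullback hY' X.property Y.property jY f.hom
  refine ⟨⟨Y', hY'⟩, ⟨_, hX'⟩, ObjectProperty.homMk jY, ObjectProperty.homMk (pullback.fst jY f.hom),
    ObjectProperty.homMk (pullback.snd jY f.hom), hjY, ?_, IsPullback.of_hasPullback jY f.hom, ?_⟩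
  · obtain ⟨q, hq⟩ := hvι
    show _ ∈ Set.range (Points.map jY)
    rw [hrange]
    exact ⟨q, by rw [ofPt_comp, hq]⟩
  · refine isFiniteMor_iff_repWith.2 ?_
    obtain ⟨l, hl₁, hl₂⟩ : ∃ l : (yon S).obj TV ⟶ pullback jY f.hom,
        l ≫ pullback.fst jY f.hom = (yon S).map g' ≫ b' ∧ l ≫ pullback.snd jY f.hom = m :=
      ⟨pullback.lift ((yon S).map g' ≫ b') m (by rw [Category.assoc, hb', sq.w]),
        pullback.lift_fst _ _ _, pullback.lift_snd _ _ _⟩
    have sq' : IsPullback l ((yon S).map g') (pullback.fst jY f.hom) b' := by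
      refine IsPullback.of_right ?_ hl₁ (IsPullback.of_hasPullback jY f.hom).flip
      rw [hl₂, hb']
      exact sq
    have := EtFound.fpqc_isFinite
    exact repWith_of_etale_cover (fun _ _ e (_ : IsFinite e) => inferInstanceAs (IsAffineHom e)) hb'e hb's sq'
      ((repWith_yon_map_iff _ g').2 hfin)

end Groth.Agent.FinNhd
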